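import Groth.Agent.Lib.Rigidity.Smooth.AffineSpace
import Groth.Agent.Lib.DiagGrp.Homs
import Groth.Agent.Lib.DiagGrp.Points
import Groth.Agent.Lib.DiagGrp.Torus
import Groth.Agent.Lib.DiagGrp.BaseChange
import Mathlib

/-!
# Homomorphisms from tori to proper group schemes are trivial
-/

universe u

open CategoryTheory Limits MonoidalCategory CartesianMonoidalCategory MonObj GrpObj AlgebraicGeometry

namespace GrothLib.Rigidity

open GrothLib.DiagGrp

theorem monoidHom_pi_int_ext {r : ℕ} {G : Type*} [CommGroup G] {φ ψ : Multiplicative (Fin r → ℤ) →* G}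
    (h : ∀ i, φ (Multiplicative.ofAdd (Pi.single i 1)) = ψ (Multiplicative.ofAdd (Pi.single i 1))) : φ = ψ := by
  refine MonoidHom.ext fun v => ?_
  have hv : v = ∏ i, (Multiplicative.ofAdd (Pi.single i (1 : ℤ) : Fin r → ℤ)) ^ (Multiplicative.toAdd v i) := by
    apply Multiplicative.toAdd.injective
    funext j
    simp [toAdd_prod, toAdd_zpow, Pi.single_apply]
  rw [hv]
  simp only [map_prod, map_zpow, h]

/-- The universal character with values in the units of a localised polynomial ring. -/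
theorem exists_universal_character (K : Type u) [Field K] (r : ℕ) :
    ∃ χ₀ : Multiplicative (Fin r → ℤ) →* Localization.Away (∏ i, (MvPolynomial.X i : MvPolynomial (ULift.{u} (Fin r)) K)),
      ∀ (C : Type u) [CommRing C] (k : K →+* C) (χ : Multiplicative (Fin r → ℤ) →* C),
        ∃ h : Localization.Away (∏ i, (MvPolynomial.X i : MvPolynomial (ULift.{u} (Fin r)) K)) →+* C,
          h.comp (algebraMap K _) = k ∧ (h : _ →* C).comp χ₀ = χ := by
  classical
  set s := (∏ i, (MvPolynomial.X i : MvPolynomial (ULift.{u} (Fin r)) K))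
  let L := Localization.Away s
  have hu : ∀ i : Fin r, IsUnit (algebraMap (MvPolynomial (ULift.{u} (Fin r)) K) L (MvPolynomial.X (ULift.up i))) := fun i =>
    isUnit_of_dvd_unit (map_dvd _ (Finset.dvd_prod_of_mem _ (Finset.mem_univ (ULift.up i))))
      (IsLocalization.Away.algebraMap_isUnit s)
  let χu : Multiplicative (Fin r → ℤ) →* Lˣ :=
    { toFun := fun v => ∏ i, (hu i).unit ^ (Multiplicative.toAdd v i)
      map_one' := by simp
      map_mul' := fun v w => by
        simp only [toAdd_mul, Pi.add_apply, zpow_add, Finset.prod_mul_distrib] }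
  refine ⟨(Units.coeHom L).comp χu, fun C _ k χ => ?_⟩
  let e : ULift.{u} (Fin r) → C := fun i => χ (Multiplicative.ofAdd (Pi.single i.down 1))
  have he : IsUnit (MvPolynomial.eval₂Hom k e s) := by
    simp only [s, map_prod, MvPolynomial.eval₂Hom_X']
    exact (IsUnit.prod_iff).mpr fun i _ => (Group.isUnit _).map χ
  refine ⟨IsLocalization.Away.lift s he, ?_, ?_⟩
  · refine RingHom.ext fun a => ?_
    rw [RingHom.comp_apply, IsScalarTower.algebraMap_apply K (MvPolynomial (ULift.{u} (Fin r)) K) L,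
      IsLocalization.Away.lift_eq]
    simp
  · have key : (Units.map ((IsLocalization.Away.lift s he : L →+* C) : L →* C)).comp χu = χ.toHomUnits := by
      refine monoidHom_pi_int_ext fun i => Units.ext ?_
      show IsLocalization.Away.lift s he ((χu (Multiplicative.ofAdd (Pi.single i (1 : ℤ))) : Lˣ) : L) = _
      have : χu (Multiplicative.ofAdd (Pi.single i (1 : ℤ))) = (hu i).unit := by
        show ∏ j, (hu j).unit ^ (Pi.single i (1 : ℤ) : Fin r → ℤ) j = _
        rw [Finset.prod_eq_single i]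
        · simp
        · intro j _ hj; simp [hj]
        · simp
      rw [this, IsUnit.unit_spec, IsLocalization.Away.lift_eq, MvPolynomial.eval₂Hom_X']
      rfl
    refine MonoidHom.ext fun v => ?_
    exact congrArg Units.val (DFunLike.congr_fun key v)

/-- Free character groups of finite rank. -/
abbrev freeM : ∀ (M : Type), AddCommGroup M → Prop := fun M inst =>
  letI := inst; ∃ r : ℕ, Nonempty (M ≃+ (Fin r → ℤ))

theorem hasChartsFpqc_freeM_of_isTorus {S : Scheme.{u}} {T : Over S} [GrpObj T] (hT : Red.IsTorus T) :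
    HasChartsFpqc freeM T := by
  obtain ⟨S', f, h1, h2, h3, h4⟩ := hT
  exact ⟨S', f, h1, h2, h3, fun s' => by
    obtain ⟨U, hU, r, e⟩ := h4 s'
    exact ⟨U, hU, Fin r → ℤ, inferInstance, ⟨r, ⟨AddEquiv.refl _⟩⟩, e⟩⟩

/-- A homomorphism from a torus to a proper group scheme is trivial. -/
theorem hom_eq_one_of_charts {S : Scheme.{u}} (T A : Over S) [GrpObj T] (hT : HasChartsFpqc freeM T)
    [GrpObj A] [IsProper A.hom] (u : T ⟶ A) [IsMonHom u] : u = 1 := by
  obtain ⟨S', f, hfl, hfs, hqc, hloc⟩ := hT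
  refine hom_trivial_of_fibres ⟨S', f, hfl, hfs, hqc, fun s' => ?_⟩ u fun s => ?_
  · obtain ⟨U, hU, M, inst, -, e⟩ := hloc s'
    exact ⟨U, hU, M, inst, e⟩
  obtain ⟨s', hs'⟩ := hfs.1 s
  obtain ⟨U, hU, M, inst, hM, ⟨e⟩⟩ := hloc s'
  letI := inst
  obtain ⟨r, ⟨em⟩⟩ := hM
  let K := AlgebraicClosure (S'.residueField s')
  let y₁ : Spec (CommRingCat.of K) ⟶ S' :=
    Spec.map (CommRingCat.ofHom (algebraMap (S'.residueField s') K)) ≫ S'.fromSpecResidueField s'
  have hy₁ : ∀ pt, y₁ pt = s' := fun pt => by rw [Scheme.Hom.comp_apply, Scheme.fromSpecResidueField_apply]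
  let y' : Spec (CommRingCat.of K) ⟶ (U : Scheme.{u}) := IsOpenImmersion.lift U.ι y₁ (by
    rintro _ ⟨pt, rfl⟩
    rw [Scheme.Opens.range_ι, hy₁]
    exact hU)
  have hy' : y' ≫ U.ι = y₁ := IsOpenImmersion.lift_fac _ _ _
  let q : (U : Scheme.{u}) ⟶ S := U.ι ≫ f
  obtain ⟨χ₀, hχ₀⟩ := exists_universal_character K r
  let C₀ := Localization.Away (∏ i, (MvPolynomial.X i : MvPolynomial (ULift.{u} (Fin r)) K))
  let k₀ : K →+* C₀ := algebraMap K C₀
  let t₀ : Spec (CommRingCat.of C₀) ⟶ (U : Scheme.{u}) := Spec.map (CommRingCat.ofHom k₀) ≫ y'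
  let x₀ : (Over.map q).obj (Over.mk t₀) ⟶ T :=
    (bcPoint q T (Over.mk t₀)).symm (dsPoint M t₀ (χ₀.comp em.toMultiplicative.toMonoidHom) ≫ e.inv.hom.hom)
  let p : Spec (CommRingCat.of K) ⟶ S := y' ≫ q
  obtain ⟨a, ha⟩ : ∃ a : Spec (CommRingCat.of K) ⟶ A.left, a ≫ A.hom = p ∧
      (x₀ ≫ u).left = Spec.map (CommRingCat.ofHom k₀) ≫ a := by
    letI : GrpObj ((Over.pullback p).obj A) := (Over.pullback p).grpObjObj
    haveI : IsProper ((Over.pullback p).obj A).hom := inferInstanceAs (IsProper (pullback.snd A.hom p))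
    have hw : (x₀ ≫ u).left ≫ A.hom = Spec.map (CommRingCat.ofHom k₀) ≫ p := by
      rw [Over.w (x₀ ≫ u)]
      exact Category.assoc _ _ _
    obtain ⟨b, hb, hg⟩ := eq_comp_of_localization_mvPolynomial (A := (Over.pullback p).obj A) (ULift.{u} (Fin r))
      (∏ i, MvPolynomial.X i) (Finset.prod_ne_zero_iff.mpr fun i _ => MvPolynomial.X_ne_zero i)
      (pullback.lift (x₀ ≫ u).left (Spec.map (CommRingCat.ofHom k₀)) hw) (pullback.lift_snd _ _ _)
    refine ⟨b ≫ pullback.fst A.hom p, ?_, ?_⟩
    · rw [Category.assoc, pullback.condition]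
      show b ≫ ((Over.pullback p).obj A).hom ≫ p = p
      rw [reassoc_of% hb]
    · have := congrArg (fun t => t ≫ pullback.fst A.hom p) hg
      simp only [pullback.lift_fst, Category.assoc] at this
      exact this
  have key : ∀ (C : Type u) [CommRing C] (k : K →+* C)
      (x : (Over.map q).obj (Over.mk (Spec.map (CommRingCat.ofHom k) ≫ y')) ⟶ T),
      (x ≫ u).left = Spec.map (CommRingCat.ofHom k) ≫ a := by
    intro C _ k x
    let t : Spec (CommRingCat.of C) ⟶ (U : Scheme.{u}) := Spec.map (CommRingCat.ofHom k) ≫ y'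
    let χ := (dsPoint M t).symm (bcPoint q T (Over.mk t) x ≫ e.hom.hom.hom)
    obtain ⟨h, hk, hχ'⟩ := hχ₀ C k (χ.comp em.symm.toMultiplicative.toMonoidHom)
    have hχ : (h : _ →* C).comp (χ₀.comp em.toMultiplicative.toMonoidHom) = χ := by
      rw [← MonoidHom.comp_assoc, hχ']
      refine MonoidHom.ext fun v => ?_
      simp
    have hp : Spec.map (CommRingCat.ofHom h) ≫ t₀ = t := by
      show _ ≫ _ ≫ y' = _
      rw [← Category.assoc, ← Spec.map_comp, ← CommRingCat.ofHom_comp, hk]
    let hh : Over.mk t ⟶ Over.mk t₀ := Over.homMk (Spec.map (CommRingCat.ofHom h)) hp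
    have h2 : bcPoint q T (Over.mk t) x ≫ e.hom.hom.hom = hh ≫ dsPoint M t₀ (χ₀.comp em.toMultiplicative.toMonoidHom) := by
      rw [dsPoint_comp t₀ t h _ hp, hχ]
      exact ((dsPoint M t).apply_symm_apply _).symm
    have he : e.hom.hom.hom ≫ e.inv.hom.hom = 𝟙 _ := by
      have := congrArg (fun m => m.hom.hom) e.hom_inv_id
      exact this
    have hx : x = (Over.map q).map hh ≫ x₀ := by
      apply (bcPoint q T (Over.mk t)).injective
      rw [bcPoint_comp, Equiv.apply_symm_apply, ← Category.assoc, ← h2, Category.assoc, he, Category.comp_id]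
    rw [hx, Category.assoc, Over.comp_left, ha.2]
    show Spec.map (CommRingCat.ofHom h) ≫ Spec.map (CommRingCat.ofHom k₀) ≫ a = _
    rw [← Category.assoc, ← Spec.map_comp, ← CommRingCat.ofHom_comp, hk]
  have key' : ∀ (C : Type u) [CommRing C] (k : K →+* C)
      (x : (Over.map q).obj (Over.mk (Spec.map (CommRingCat.ofHom k) ≫ y')) ⟶ T), x ≫ u = 1 := by
    intro C _ k x
    refine Over.OverMorphism.ext ?_
    rw [key C k x, ← key C k 1]
    exact congrArg CommaMorphism.left (by rw [Hom.one_def, Category.assoc, IsMonHom.one_hom, ← Hom.one_def])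
  -- descend to the residue field
  set σr := S.fromSpecResidueField s with hσr
  obtain ⟨σ, hσ⟩ : ∃ σ : Spec (CommRingCat.of K) ⟶ Spec (S.residueField s), σ ≫ σr = p := by
    have hps : ∀ pt, p pt = s := fun pt => by
      show f (U.ι (y' pt)) = s
      rw [← Scheme.Hom.comp_apply y' U.ι, hy', hy₁, hs']
    obtain ⟨⟨x, φ⟩, hx⟩ : ∃ w, (Scheme.SpecToEquivOfField K S).symm w = p :=
      ⟨_, (Scheme.SpecToEquivOfField K S).symm_apply_apply p⟩
    obtain rfl : x = s := by
      rw [← hps (IsLocalRing.closedPoint K), ← hx]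
      simp [Scheme.SpecToEquivOfField]
    exact ⟨Spec.map φ, hx⟩
  refine Over.OverMorphism.ext ?_
  let π := pullback.fst (pullback.snd T.hom σr) σ
  haveI : Surjective π := MorphismProperty.pullback_fst _ _ ⟨fun z => ⟨IsLocalRing.closedPoint K,
    Subsingleton.elim (α := PrimeSpectrum _) _ _⟩⟩
  haveI : Flat π := inferInstanceAs (Flat (pullback.fst (pullback.snd T.hom σr) σ))
  haveI : QuasiCompact π := inferInstanceAs (QuasiCompact (pullback.fst (pullback.snd T.hom σr) σ))
  haveI : Epi π := inferInstance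
  rw [← cancel_epi π]
  refine pullback.hom_ext ?_ ((Category.assoc _ _ _).trans ((congrArg (π ≫ ·) (Over.w _)).trans
    ((congrArg (π ≫ ·) (Over.w _).symm).trans (Category.assoc _ _ _).symm)))
  rw [Category.assoc, Category.assoc, ← Functor.map_one (F := Over.pullback σr) (X := T) (M := A)]
  simp only [Over.pullback_map_left, pullback.lift_fst]
  refine Scheme.Cover.hom_ext (Scheme.affineCover _) _ _ fun i => ?_
  set j := (Scheme.affineCover (pullback (pullback.snd T.hom σr) σ)).f i
  set k := Spec.preimage (j ≫ pullback.snd (pullback.snd T.hom σr) σ) with hk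
  let x : (Over.map q).obj (Over.mk (Spec.map (CommRingCat.ofHom k.hom) ≫ y')) ⟶ T :=
    Over.homMk (j ≫ π ≫ pullback.fst T.hom σr) (by
      show _ = (Spec.map (CommRingCat.ofHom k.hom) ≫ y') ≫ q
      rw [CommRingCat.ofHom_hom, hk, Spec.map_preimage]
      calc (j ≫ π ≫ pullback.fst T.hom σr) ≫ T.hom = j ≫ π ≫ pullback.snd T.hom σr ≫ σr := by
            simp only [Category.assoc]
            exact congrArg (fun m => j ≫ π ≫ m) pullback.condition
        _ = j ≫ pullback.snd (pullback.snd T.hom σr) σ ≫ σ ≫ σr := by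
            exact congrArg (j ≫ ·) (pullback.condition_assoc (f := pullback.snd T.hom σr) (g := σ) σr)
        _ = j ≫ pullback.snd (pullback.snd T.hom σr) σ ≫ y' ≫ q := by rw [hσ]
        _ = _ := by simp only [Category.assoc]; rfl)
  have h := congrArg CommaMorphism.left ((key' _ k.hom x).trans (MonObj.comp_one x).symm)
  simpa only [Over.comp_left, Over.homMk_left, Category.assoc, x] using! h

theorem hom_eq_one_of_isTorus {S : Scheme.{u}} (T A : Over S) [GrpObj T] (hT : Red.IsTorus T)
    [GrpObj A] [IsProper A.hom] (u : T ⟶ A) [IsMonHom u] : u = 1 :=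
  hom_eq_one_of_charts T A (hasChartsFpqc_freeM_of_isTorus hT) u

end GrothLib.Rigidity
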