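import Groth.Agent.Lib.Rigidity.Smooth.CurveAlg
import Groth.Agent.Lib.Chow.Embed
import Groth.Agent.Lib.Chow.Prod
import Groth.Agent.Lib.Japanese.Curve
import Groth.Agent.Lib.Dim.Scheme
import Groth.Agent.Lib.NormalSerre.Serre
import Groth.Agent.Lib.LocProp.RegularSmooth
import Mathlib

/-!
# Proper smooth curves through a point of a variety
-/

universe u

open CategoryTheory Limits AlgebraicGeometry TopologicalSpace

namespace GrothLib.Rigidity

variable {K : Type u} [Field K]

theorem coheight_le_one_of_dim {X : Scheme.{u}} (h : topologicalKrullDim X ≤ 1) (x : X) : Order.coheight x ≤ 1 := by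
  have h' := (Order.coheight_le_krullDim x).trans ((Order.krullDim_eq_of_orderIso
      (irreducibleSetEquivPoints (α := ↥X))).symm.le.trans h)
  exact_mod_cast h'

/-- Over a perfect field a scheme with regular local rings is smooth. -/
theorem smooth_of_isRegular [PerfectField K] {X : Scheme.{u}} (f : X ⟶ Spec (CommRingCat.of K))
    [LocallyOfFiniteType f] (h : ∀ x : X, IsRegularLocalRing (X.presheaf.stalk x)) : Smooth f := by
  haveI : IsLocallyNoetherian (Spec (CommRingCat.of K)) := inferInstance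
  haveI : LocallyOfFinitePresentation f := inferInstance
  rw [← Scheme.Hom.smoothLocus_eq_top_iff, eq_top_iff]
  intro x _
  obtain ⟨U, hU, hxU, -⟩ := exists_isAffineOpen_mem_and_subset (U := (⊤ : X.Opens)) (x := x) trivial
  have hle : U ≤ f ⁻¹ᵁ ⊤ := le_top
  rw [Scheme.Hom.mem_smoothLocus, formallySmooth_stalkMap_iff ⊤ (isAffineOpen_top _) U hU hle hxU]
  let A := Γ(X, U)
  let R := Γ(Spec (CommRingCat.of K), ⊤)
  have hR : IsField R :=
    MulEquiv.isField (Field.toIsField K) (Scheme.ΓSpecIso (CommRingCat.of K)).commRingCatIsoToRingEquiv.toMulEquiv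
  letI : Field R := hR.toField
  haveI : PerfectField R :=
    PerfectField.of_ringEquiv (Scheme.ΓSpecIso (CommRingCat.of K)).symm.commRingCatIsoToRingEquiv
  letI : Algebra R A := (f.appLE ⊤ U hle).hom.toAlgebra
  haveI : Algebra.FiniteType R A := HasRingHomProperty.appLE @LocallyOfFiniteType f inferInstance
      ⟨⊤, isAffineOpen_top _⟩ ⟨U, hU⟩ hle
  let q := (hU.primeIdealOf ⟨x, hxU⟩).asIdeal
  letI := TopCat.Presheaf.algebra_section_stalk X.presheaf (⟨x, hxU⟩ : U)
  haveI := hU.isLocalization_stalk ⟨x, hxU⟩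
  haveI : IsRegularLocalRing (X.presheaf.stalk x) := h x
  haveI : IsRegularLocalRing (Localization.AtPrime q) := IsRegularLocalRing.of_ringEquiv
    (IsLocalization.algEquiv q.primeCompl (X.presheaf.stalk x) (Localization.AtPrime q)).toRingEquiv
  exact GrothLib.LocProp.isSmoothAt_of_isRegularLocalRing_of_perfectField q

/-- A proper smooth curve mapping to a given closed point and into a given open subset. -/
theorem exists_proper_curve [IsAlgClosed K] {V : Scheme.{u}} (pV : V ⟶ Spec (CommRingCat.of K))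
    [LocallyOfFiniteType pV] [IsIntegral V] (v₀ : V) (hv₀ : IsClosed ({v₀} : Set V)) (O : V.Opens)
    (hO : (O : Set V).Nonempty) (hv₀O : v₀ ∉ O) :
    ∃ (N : Scheme.{u}) (pN : N ⟶ Spec (CommRingCat.of K)) (N₀ : N.Opens) (φ : (N₀ : Scheme.{u}) ⟶ V),
      IsProper pN ∧ Smooth pN ∧ IsIntegral N ∧ φ ≫ pV = N₀.ι ≫ pN ∧
        (∃ n : (N₀ : Scheme.{u}), φ n = v₀) ∧ ∃ n : (N₀ : Scheme.{u}), φ n ∈ O := by
  obtain ⟨U, hU, hv₀U, -⟩ := exists_isAffineOpen_mem_and_subset (U := (⊤ : V.Opens)) (x := v₀) trivial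
  haveI : Nonempty U := ⟨⟨v₀, hv₀U⟩⟩
  obtain ⟨y, hyU, hyO⟩ := nonempty_preirreducible_inter U.2 O.2 ⟨v₀, hv₀U⟩ hO
  obtain ⟨a, haO, hya⟩ := hU.exists_basicOpen_le (V := O) ⟨y, hyO⟩ hyU
  let B := Γ(V, U)
  obtain ⟨ψ, hψ, hψeq⟩ := GrothLib.Dim.exists_finiteType_specMap pV hU
  letI : Algebra K B := ψ.hom.toAlgebra
  haveI : Algebra.FiniteType K B := hψ
  let 𝔪 := hU.primeIdealOf ⟨v₀, hv₀U⟩
  haveI : 𝔪.asIdeal.IsMaximal := by
    apply (PrimeSpectrum.isClosed_singleton_iff_isMaximal _).mp
    have e : hU.fromSpec ⁻¹' {v₀} = {𝔪} := by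
      refine Set.Subset.antisymm (fun p hp => hU.fromSpec.isOpenEmbedding.injective ?_) fun p hp => ?_
      · rw [hU.fromSpec_primeIdealOf]; exact hp
      · obtain rfl := Set.mem_singleton_iff.mp hp
        exact hU.fromSpec_primeIdealOf _
    exact e ▸ hv₀.preimage hU.fromSpec.continuous
  have ha0 : a ≠ 0 := by
    rintro rfl
    rw [Scheme.basicOpen_zero] at hya
    exact hya
  have ham : a ∈ 𝔪.asIdeal := by
    by_contra h
    refine hv₀O (haO ?_)
    have : 𝔪 ∈ hU.fromSpec ⁻¹ᵁ V.basicOpen a := by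
      rw [hU.fromSpec_preimage_basicOpen]; exact h
    have := (Scheme.Hom.mem_preimage ..).mp this
    rwa [hU.fromSpec_primeIdealOf] at this
  obtain ⟨p, hp, hpm, hap, hdim⟩ := exists_prime_quotient_dim_le_one K 𝔪.asIdeal a ha0 ham
  haveI := hp
  let C : Scheme.{u} := Spec (CommRingCat.of (B ⧸ p))
  let q : CommRingCat.of B ⟶ CommRingCat.of (B ⧸ p) := CommRingCat.ofHom (Ideal.Quotient.mk p)
  let i₀ : C ⟶ V := Spec.map q ≫ hU.fromSpec
  haveI : IsClosedImmersion (Spec.map q) :=
    IsClosedImmersion.spec_of_surjective q Ideal.Quotient.mk_surjective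
  haveI : LocallyOfFiniteType (i₀ ≫ pV) := inferInstance
  haveI : IsIntegral C := inferInstanceAs (IsIntegral (Spec (CommRingCat.of (B ⧸ p))))
  obtain ⟨d, j, hj, hjq, hjS⟩ := GrothLib.Chow.exists_immersion (i₀ ≫ pV)
  let C' : Scheme.{u} := j.image
  let pP := CohB1.ProjSpaceOver.toBase d (Spec (CommRingCat.of K))
  haveI : IsProper pP := GrothLib.Chow.isProper_toBase d _
  let pC' : C' ⟶ Spec (CommRingCat.of K) := j.imageι ≫ pP
  haveI : IsProper pC' := inferInstance
  haveI : IsLocallyNoetherian C' := LocallyOfFiniteType.isLocallyNoetherian pC'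
  haveI : IrreducibleSpace C' := by
    have h1 : IsIrreducible (closure (Set.range j.toImage)) := by
      refine (isIrreducible_iff_closure).mpr ?_
      rw [← Set.image_univ]
      exact (IrreducibleSpace.isIrreducible_univ _).image _ j.toImage.continuous.continuousOn
    rw [j.toImage.denseRange.closure_range] at h1
    exact { isPreirreducible_univ := h1.2, toNonempty := ⟨h1.1.choose⟩ }
  haveI : IsReduced C' := by
    haveI : ∀ z : C', _root_.IsReduced (C'.presheaf.stalk z) := by
      intro z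
      obtain ⟨W, hW, hzW, -⟩ := exists_isAffineOpen_mem_and_subset (U := (⊤ : (CohB1.ProjSpaceOver d (Spec (CommRingCat.of K))).Opens)) (x := j.imageι z) trivial
      have hW' : IsAffineOpen (j.imageι ⁻¹ᵁ W) := hW.preimage _
      haveI : _root_.IsReduced Γ(C', j.imageι ⁻¹ᵁ W) :=
        isReduced_of_injective (j.toImage.app _).hom (j.toImage_app_injective ⟨W, hW⟩)
      letI := TopCat.Presheaf.algebra_section_stalk C'.presheaf (⟨z, hzW⟩ : (j.imageι ⁻¹ᵁ W : C'.Opens))
      haveI := hW'.isLocalization_stalk ⟨z, hzW⟩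
      exact isReduced_localizationPreserves (hW'.primeIdealOf ⟨z, hzW⟩).asIdeal.primeCompl (C'.presheaf.stalk z) inferInstance
    exact isReduced_of_isReduced_stalk C'
  haveI : IsIntegral C' := isIntegral_of_irreducibleSpace_of_isReduced _
  have hdC : topologicalKrullDim C ≤ 1 :=
    (PrimeSpectrum.topologicalKrullDim_eq_ringKrullDim (R := B ⧸ p)).le.trans hdim
  have hdC' : topologicalKrullDim C' ≤ 1 := by
    obtain ⟨n, hn, hnU⟩ := GrothLib.Dim.exists_nat_dim_open pC'
    rw [hn, ← hnU j.toImage.opensRange ⟨⟨_, ⟨genericPoint C, rfl⟩⟩⟩]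
    refine le_of_eq_of_le ?_ hdC
    exact (GrothLib.Dim.IsEmbedding.topologicalKrullDim_eq j.toImage.isOpenEmbedding.isEmbedding rfl).symm
  -- the normalization
  let g : Spec (CommRingCat.of C'.functionField) ⟶ C' := C'.fromSpecStalk (genericPoint C')
  have hg : g = Spec.map (CommRingCat.ofHom (RingHom.id C'.functionField)) ≫ C'.fromSpecStalk (genericPoint C') := by
    simp [g]
  have hφ : (RingHom.id C'.functionField).Finite := RingHom.Finite.id _
  haveI : C'.IsSeparated := ⟨by rw [← terminal.comp_from pC']; infer_instance⟩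
  haveI : QuasiCompact g := inferInstance
  let N := g.normalization
  let ν : N ⟶ C' := g.fromNormalization
  haveI : IsFinite ν := GrothLib.Japanese.isFinite_fromNormalization K pC' _ hφ g hg
  have hN := GrothLib.Japanese.isIntegrallyClosed_stalk_normalization K pC' _ hφ g hg
  let pN : N ⟶ Spec (CommRingCat.of K) := ν ≫ pC'
  haveI : IsProper pN := inferInstance
  haveI : IsLocallyNoetherian N := LocallyOfFiniteType.isLocallyNoetherian pN
  haveI : IsReduced N := by
    haveI : ∀ z : N, _root_.IsReduced (N.presheaf.stalk z) := fun z => by haveI := (hN z).1; infer_instance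
    exact isReduced_of_isReduced_stalk N
  haveI : IrreducibleSpace N := by
    have h1 : IsIrreducible (closure (Set.range g.toNormalization)) := by
      refine (isIrreducible_iff_closure).mpr ?_
      rw [← Set.image_univ]
      exact (IrreducibleSpace.isIrreducible_univ _).image _ g.toNormalization.continuous.continuousOn
    rw [g.toNormalization.denseRange.closure_range] at h1
    exact { isPreirreducible_univ := h1.2, toNonempty := ⟨h1.1.choose⟩ }
  haveI : IsIntegral N := isIntegral_of_irreducibleSpace_of_isReduced _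
  have hreg : ∀ z : N, IsRegularLocalRing (N.presheaf.stalk z) := by
    intro z
    haveI := (hN z).1
    haveI := (hN z).2
    apply GrothLib.NormalSerre.isRegularLocalRing_of_isIntegrallyClosed
    have h1 : (IsLocalRing.maximalIdeal (N.presheaf.stalk z)).height ≤ Order.coheight z := by
      have := IsLocalRing.maximalIdeal_height_eq_ringKrullDim (R := N.presheaf.stalk z)
      rw [ringKrullDim_stalk_eq_coheight] at this
      exact (WithBot.coe_inj.mp this).le
    exact h1.trans ((GrothLib.Japanese.Scheme.Hom.coheight_le_of_locallyQuasiFinite ν z).trans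
      (coheight_le_one_of_dim hdC' _))
  haveI : Smooth pN := smooth_of_isRegular pN hreg
  -- the part over the curve
  let N₀ : N.Opens := ν ⁻¹ᵁ j.toImage.opensRange
  let ν₀ : (N₀ : Scheme.{u}) ⟶ C := IsOpenImmersion.lift j.toImage (N₀.ι ≫ ν) (by
    rintro _ ⟨n, rfl⟩
    exact n.2)
  have hν₀ : ν₀ ≫ j.toImage = N₀.ι ≫ ν := IsOpenImmersion.lift_fac _ _ _
  have hsurjν : ∀ c : C, ∃ n : (N₀ : Scheme.{u}), ν₀ n = c := by
    intro c
    have hr : Set.range ν = Set.univ := by
      refine Set.eq_univ_of_univ_subset ?_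
      rw [← (genericPoint_spec C').def]
      refine closure_minimal (Set.singleton_subset_iff.mpr ?_) ν.isClosedMap.isClosed_range
      refine ⟨g.toNormalization (IsLocalRing.closedPoint _), ?_⟩
      rw [← Scheme.Hom.comp_apply, g.toNormalization_fromNormalization]
      exact Scheme.fromSpecStalk_closedPoint
    obtain ⟨n, hn⟩ := (Set.eq_univ_iff_forall.mp hr) (j.toImage c)
    refine ⟨(⟨n, show ν n ∈ j.toImage.opensRange from hn ▸ ⟨c, rfl⟩⟩ : (N₀ : Scheme.{u})),
      j.toImage.isOpenEmbedding.injective ?_⟩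
    rw [← Scheme.Hom.comp_apply, hν₀]
    exact hn
  refine ⟨N, pN, N₀, ν₀ ≫ i₀, inferInstance, inferInstance, inferInstance, ?_, ?_, ?_⟩
  · rw [Category.assoc, ← hjS]
    show ν₀ ≫ j ≫ pP = N₀.ι ≫ ν ≫ j.imageι ≫ pP
    rw [← reassoc_of% hν₀, Scheme.Hom.toImage_imageι_assoc]
  · haveI : (𝔪.asIdeal.map (Ideal.Quotient.mk p)).IsPrime :=
      Ideal.map_isPrime_of_surjective Ideal.Quotient.mk_surjective (by rw [Ideal.mk_ker]; exact hpm)
    obtain ⟨n, hn⟩ := hsurjν (⟨𝔪.asIdeal.map (Ideal.Quotient.mk p), inferInstance⟩ : PrimeSpectrum (B ⧸ p))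
    refine ⟨n, ?_⟩
    rw [Scheme.Hom.comp_apply, hn]
    show hU.fromSpec (Spec.map q _) = v₀
    rw [show Spec.map q (⟨𝔪.asIdeal.map (Ideal.Quotient.mk p), inferInstance⟩ : PrimeSpectrum (B ⧸ p)) = 𝔪 from
      PrimeSpectrum.ext (by
        show (𝔪.asIdeal.map (Ideal.Quotient.mk p)).comap (Ideal.Quotient.mk p) = 𝔪.asIdeal
        rw [Ideal.comap_map_of_surjective _ Ideal.Quotient.mk_surjective, ← RingHom.ker_eq_comap_bot, Ideal.mk_ker,
          sup_eq_left.mpr hpm])]
    exact hU.fromSpec_primeIdealOf _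
  · obtain ⟨n, hn⟩ := hsurjν (⟨⊥, Ideal.isPrime_bot⟩ : PrimeSpectrum (B ⧸ p))
    refine ⟨n, haO ?_⟩
    rw [Scheme.Hom.comp_apply, hn]
    have : Spec.map q (⟨⊥, Ideal.isPrime_bot⟩ : PrimeSpectrum (B ⧸ p)) ∈ hU.fromSpec ⁻¹ᵁ V.basicOpen a := by
      rw [hU.fromSpec_preimage_basicOpen]
      show a ∉ (⊥ : Ideal (B ⧸ p)).comap (Ideal.Quotient.mk p)
      rwa [← RingHom.ker_eq_comap_bot, Ideal.mk_ker]
    exact this

end GrothLib.Rigidity
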