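import Groth.Agent.Lib.Rigidity.Smooth.AlgClosed
import Mathlib

/-!
# Morphisms from products of smooth varieties to abelian varieties split as sums
-/

universe u

open CategoryTheory Limits AlgebraicGeometry MonoidalCategory CartesianMonoidalCategory MonObj TopologicalSpace
open scoped Obj

namespace GrothLib.Rigidity

variable {K : Type u} [Field K] {V W A : Over (Spec (CommRingCat.of K))}
  [Smooth V.hom] [IsSeparated V.hom] [GeometricallyIntegral V.hom]
  [Smooth W.hom] [IsSeparated W.hom] [GeometricallyIntegral W.hom]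
  [GrpObj A] [IsProper A.hom]

theorem map_lift_eq_of_slice (f : V ⊗ W ⟶ A) (v₀ : 𝟙_ _ ⟶ V) (h1 : lift (toUnit W ≫ v₀) (𝟙 W) ≫ f = 1)
    {T : Over (Spec (CommRingCat.of K))} (a : T ⟶ V) (b b' : T ⟶ W) : lift a b ≫ f = lift a b' ≫ f := by
  let L := AlgebraicClosure K
  let φ : Spec (CommRingCat.of L) ⟶ Spec (CommRingCat.of K) := Spec.map (CommRingCat.ofHom (algebraMap K L))
  let F := Over.pullback φ
  haveI : Smooth (F.obj V).hom := by dsimp [F]; infer_instance
  haveI : IsSeparated (F.obj V).hom := by dsimp [F]; infer_instance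
  haveI : GeometricallyIntegral (F.obj V).hom := by dsimp [F]; infer_instance
  haveI : Smooth (F.obj W).hom := by dsimp [F]; infer_instance
  haveI : IsSeparated (F.obj W).hom := by dsimp [F]; infer_instance
  haveI : GeometricallyIntegral (F.obj W).hom := by dsimp [F]; infer_instance
  haveI : IsIntegral (F.obj V).left := GeometricallyIntegral.isIntegral_of_subsingleton (F.obj V).hom
  haveI : IsIntegral (F.obj W).left := GeometricallyIntegral.isIntegral_of_subsingleton (F.obj W).hom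
  haveI : IsProper (F.obj A).hom := by dsimp [F]; infer_instance
  obtain ⟨w₁, -⟩ := exists_point_mem (X := F.obj W) (S := Set.univ) isOpen_univ.isLocallyClosed Set.univ_nonempty
  let v₁ : 𝟙_ (Over (Spec (CommRingCat.of L))) ⟶ F.obj V := Functor.LaxMonoidal.ε F ≫ F.map v₀
  let f' : F.obj V ⊗ F.obj W ⟶ F.obj A := Functor.LaxMonoidal.μ F V W ≫ F.map f
  have hf' : ∀ {S : Over (Spec (CommRingCat.of K))} (c : S ⟶ V) (d : S ⟶ W),
      F.map (lift c d ≫ f) = lift (F.map c) (F.map d) ≫ f' := fun c d => by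
    simp only [f', F.map_comp, Functor.Monoidal.lift_μ_assoc]
  let p : F.obj V ⟶ F.obj A := lift (𝟙 _) (toUnit _ ≫ w₁) ≫ f'
  have hW : lift (toUnit (F.obj W) ≫ v₁) (𝟙 (F.obj W)) ≫ f' = 1 := by
    have := hf' (toUnit W ≫ v₀) (𝟙 W)
    rw [h1, Functor.map_one, F.map_id, F.map_comp, ← Functor.Monoidal.toUnit_ε, Category.assoc] at this
    exact this.symm
  have hp : v₁ ≫ p = 1 := by
    have : v₁ ≫ lift (𝟙 _) (toUnit _ ≫ w₁) = w₁ ≫ lift (toUnit (F.obj W) ≫ v₁) (𝟙 (F.obj W)) := by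
      apply CartesianMonoidalCategory.hom_ext
      · simp only [Category.assoc, lift_fst, Category.comp_id]
        rw [← Category.assoc w₁, Subsingleton.elim (w₁ ≫ toUnit _) (𝟙 _), Category.id_comp]
      · simp only [Category.assoc, lift_snd, Category.comp_id]
        rw [← Category.assoc v₁, Subsingleton.elim (v₁ ≫ toUnit _) (𝟙 _), Category.id_comp]
    rw [← Category.assoc, this, Category.assoc, hW, MonObj.comp_one]
  have hd : f' * (fst _ _ ≫ p)⁻¹ = 1 := by
    refine eq_one_of_slices _ v₁ w₁ ?_ ?_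
    · rw [MonObj.comp_mul, GrpObj.comp_inv, hW, lift_fst_assoc, Category.assoc, hp, MonObj.comp_one, inv_one, _root_.mul_one]
    · rw [MonObj.comp_mul, GrpObj.comp_inv, lift_fst_assoc, Category.id_comp]
      exact mul_inv_cancel _
  have hd' : f' = fst _ _ ≫ p := mul_inv_eq_one.mp hd
  apply F.map_injective
  rw [hf', hf', hd', lift_fst_assoc, lift_fst_assoc]

/-- A morphism trivial on `v₀ × W` factors through the first projection. -/
theorem exists_eq_fst_comp_of_slice (f : V ⊗ W ⟶ A) (v₀ : 𝟙_ _ ⟶ V) (h1 : lift (toUnit W ≫ v₀) (𝟙 W) ≫ f = 1) :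
    ∃ g : V ⟶ A, f = fst V W ≫ g := by
  haveI : IsIntegral W.left := GeometricallyIntegral.isIntegral_of_subsingleton W.hom
  haveI : Surjective W.hom := ⟨fun s => ⟨Classical.arbitrary _, Subsingleton.elim (α := PrimeSpectrum K) _ _⟩⟩
  haveI : CompactSpace ↥(Spec (CommRingCat.of K)) := inferInstance
  obtain ⟨_, ⟨U, hU, rfl⟩, hw, -⟩ :=
    W.left.isBasis_affineOpens.exists_subset_of_mem_open (Set.mem_univ (genericPoint W.left)) isOpen_univ
  let U : W.left.Opens := U
  haveI : IsAffine U := hU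
  let W' : Over (Spec (CommRingCat.of K)) := Over.mk (U.ι ≫ W.hom)
  let j : W' ⟶ W := Over.homMk U.ι
  haveI : Nonempty W'.left := ⟨⟨_, hw⟩⟩
  haveI : Surjective W'.hom := ⟨fun s => ⟨Classical.arbitrary W'.left, Subsingleton.elim (α := PrimeSpectrum K) _ _⟩⟩
  haveI : QuasiCompact W'.hom := by
    haveI : CompactSpace W'.left := inferInstanceAs (CompactSpace U)
    infer_instance
  haveI : Flat W'.hom := inferInstance
  let π := (fst V W').left
  haveI : Surjective π := inferInstanceAs (Surjective (pullback.fst V.hom W'.hom))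
  haveI : Flat π := inferInstanceAs (Flat (pullback.fst V.hom W'.hom))
  haveI : QuasiCompact π := inferInstanceAs (QuasiCompact (pullback.fst V.hom W'.hom))
  let f₁ := (V ◁ j) ≫ f
  have hkp : ∀ {T : Scheme.{u}} (a b : T ⟶ (V ⊗ W').left), a ≫ π = b ≫ π → a ≫ f₁.left = b ≫ f₁.left := by
    intro T a b hab
    let T' : Over (Spec (CommRingCat.of K)) := Over.mk (a ≫ (V ⊗ W').hom)
    let a' : T' ⟶ V ⊗ W' := Over.homMk a rfl
    let b' : T' ⟶ V ⊗ W' := Over.homMk b (by
      change b ≫ (V ⊗ W').hom = a ≫ (V ⊗ W').hom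
      rw [← Over.w (fst V W'), ← Category.assoc, ← hab, Category.assoc])
    have hab' : a' ≫ fst V W' = b' ≫ fst V W' := Over.OverMorphism.ext hab
    have e : ∀ c : T' ⟶ V ⊗ W', c ≫ (V ◁ j) = lift (c ≫ fst V W') (c ≫ snd V W' ≫ j) := fun c => by ext <;> simp
    have : a' ≫ f₁ = b' ≫ f₁ := by
      simp only [f₁, ← Category.assoc]
      rw [e, e, hab']
      exact map_lift_eq_of_slice f v₀ h1 _ _ _
    exact congr_arg (fun m ↦ m.left) this
  let gE := EffectiveEpi.desc π f₁.left fun a b hab ↦ hkp a b hab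
  have hfac : π ≫ gE = f₁.left := EffectiveEpi.fac _ _ _
  let g : V ⟶ A := Over.homMk gE (by
    rw [← cancel_epi π, ← Category.assoc, hfac, Over.w]
    exact (Over.w (fst V W')).symm)
  refine ⟨g, ?_⟩
  have hf₁ : f₁ = fst V W' ≫ g := Over.OverMorphism.ext hfac.symm
  -- compare on `(V ⊗ W) ⊗ W'`
  have hepi : Surjective (fst (V ⊗ W) W').left := inferInstanceAs (Surjective (pullback.fst (V ⊗ W).hom W'.hom))
  have : Flat (fst (V ⊗ W) W').left := inferInstanceAs (Flat (pullback.fst (V ⊗ W).hom W'.hom))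
  have : QuasiCompact (fst (V ⊗ W) W').left := inferInstanceAs (QuasiCompact (pullback.fst (V ⊗ W).hom W'.hom))
  haveI : Epi (fst (V ⊗ W) W').left := inferInstance
  refine Over.OverMorphism.ext ((cancel_epi (fst (V ⊗ W) W').left).mp ?_)
  rw [← Over.comp_left, ← Over.comp_left]
  refine congrArg CommaMorphism.left ?_
  let x := fst (V ⊗ W) W' ≫ fst V W
  let y := fst (V ⊗ W) W' ≫ snd V W
  let y' := snd (V ⊗ W) W'
  have ex : fst (V ⊗ W) W' = lift x y := by apply CartesianMonoidalCategory.hom_ext <;> simp [x, y]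
  rw [ex, map_lift_eq_of_slice f v₀ h1 x y (y' ≫ j), lift_fst_assoc,
    show lift x (y' ≫ j) = lift x y' ≫ (V ◁ j) by ext <;> simp, Category.assoc]
  show _ ≫ f₁ = _
  rw [hf₁, lift_fst_assoc]

theorem exists_eq_mul (f : V ⊗ W ⟶ A) (v₀ : 𝟙_ _ ⟶ V) :
    ∃ (f₁ : V ⟶ A) (f₂ : W ⟶ A), f = (fst V W ≫ f₁) * (snd V W ≫ f₂) := by
  let f₂ : W ⟶ A := lift (toUnit W ≫ v₀) (𝟙 W) ≫ f
  obtain ⟨g, hg⟩ := exists_eq_fst_comp_of_slice (f * (snd V W ≫ f₂)⁻¹) v₀ (by
    rw [MonObj.comp_mul, GrpObj.comp_inv, lift_snd_assoc, Category.id_comp]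
    exact mul_inv_cancel _)
  exact ⟨g, f₂, mul_inv_eq_iff_eq_mul.mp hg⟩

end GrothLib.Rigidity
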