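import Groth.Agent.Lib.Rigidity.Smooth.General
import Mathlib

/-!
# Morphisms from affine space to proper group schemes are constant
-/

universe u

open CategoryTheory MonoidalCategory CartesianMonoidalCategory MonObj GrpObj AlgebraicGeometry

namespace GrothLib.Rigidity

/-- A morphism from affine space to a proper group scheme over a field is constant. -/
theorem eq_toUnit_comp_of_affineSpace {K : Type u} [Field K] {A : Over (Spec (CommRingCat.of K))}
    [GrpObj A] [IsProper A.hom] (n : Type u) [Finite n]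
    (h : Over.mk (𝔸(n; Spec (CommRingCat.of K)) ↘ Spec (CommRingCat.of K)) ⟶ A) :
    ∃ c : 𝟙_ (Over (Spec (CommRingCat.of K))) ⟶ A, h = toUnit _ ≫ c := by
  let E : Over (Spec (CommRingCat.of K)) := Over.mk (𝔸(n; Spec (CommRingCat.of K)) ↘ Spec (CommRingCat.of K))
  let S := Spec (CommRingCat.of K)
  let L : Over S := Over.mk (𝔸(PUnit.{u+1}; S) ↘ S)
  have hsm : ∀ (m : Type u) [Finite m], Smooth (𝔸(m; S) ↘ S) := by
    intro m _
    rw [← MorphismProperty.cancel_left_of_respectsIso @Smooth (AffineSpace.SpecIso m (CommRingCat.of K)).inv,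
      AffineSpace.SpecIso_inv_over, HasRingHomProperty.Spec_iff (P := @Smooth)]
    show RingHom.Smooth (MvPolynomial.C (σ := m) (R := K))
    rw [← MvPolynomial.algebraMap_eq, RingHom.smooth_algebraMap]
    exact { }
  haveI : Smooth E.hom := hsm n
  haveI : Smooth L.hom := hsm _
  haveI : GeometricallyIntegral E.hom := inferInstanceAs (GeometricallyIntegral (𝔸(n; S) ↘ S))
  haveI : GeometricallyIntegral L.hom := inferInstanceAs (GeometricallyIntegral (𝔸(PUnit.{u+1}; S) ↘ S))
  haveI : IsSeparated E.hom := inferInstanceAs (IsSeparated (𝔸(n; S) ↘ S))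
  haveI : IsSeparated L.hom := inferInstanceAs (IsSeparated (𝔸(PUnit.{u+1}; S) ↘ S))
  haveI : QuasiCompact E.hom := inferInstanceAs (QuasiCompact (𝔸(n; S) ↘ S))
  haveI : GrpObj (Over.mk A.hom) := ‹GrpObj A›
  haveI : IsIntegral E.left := GeometricallyIntegral.isIntegral_of_subsingleton E.hom
  let zero : 𝟙_ (Over S) ⟶ E := Over.homMk (AffineSpace.homOfVector (𝟙 S) 0) (AffineSpace.homOfVector_over _ _)
  let t₀ : 𝟙_ (Over S) ⟶ L := Over.homMk (AffineSpace.homOfVector (𝟙 S) 0) (AffineSpace.homOfVector_over _ _)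
  let t₁ : 𝟙_ (Over S) ⟶ L := Over.homMk (AffineSpace.homOfVector (𝟙 S) 1) (AffineSpace.homOfVector_over _ _)
  let sm : L ⊗ E ⟶ E := Over.homMk
    (AffineSpace.homOfVector (L ⊗ E).hom (fun i =>
      (fst L E).left.appTop (AffineSpace.coord S PUnit.unit) * (snd L E).left.appTop (AffineSpace.coord S i)))
    (AffineSpace.homOfVector_over _ _)
  have hsm0 : lift (toUnit E ≫ t₀) (𝟙 E) ≫ sm = toUnit E ≫ zero := by
    refine Over.OverMorphism.ext (AffineSpace.hom_ext ((Over.w _).trans (Over.w _).symm) fun i => ?_)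
    have e1 : (lift (toUnit E ≫ t₀) (𝟙 E)).left.appTop ((fst L E).left.appTop (AffineSpace.coord S PUnit.unit)) = 0 := by
      rw [← ConcreteCategory.comp_apply, ← Scheme.Hom.comp_appTop, ← Over.comp_left, lift_fst, Over.comp_left,
        Scheme.Hom.comp_appTop, ConcreteCategory.comp_apply]
      show E.hom.appTop ((AffineSpace.homOfVector (𝟙 S) 0).appTop (AffineSpace.coord S PUnit.unit)) = 0
      simp
    show (_ ≫ sm.left).appTop _ = (_ ≫ zero.left).appTop _
    rw [Scheme.Hom.comp_appTop, Scheme.Hom.comp_appTop, ConcreteCategory.comp_apply, ConcreteCategory.comp_apply]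
    show (lift (toUnit E ≫ t₀) (𝟙 E)).left.appTop ((AffineSpace.homOfVector (L ⊗ E).hom _).appTop (AffineSpace.coord S i)) = (toUnit E).left.appTop ((AffineSpace.homOfVector (𝟙 S) 0).appTop (AffineSpace.coord S i))
    rw [AffineSpace.homOfVector_appTop_coord, AffineSpace.homOfVector_appTop_coord, map_mul, e1, zero_mul, Pi.zero_apply, map_zero]
  have hsm1 : lift (toUnit E ≫ t₁) (𝟙 E) ≫ sm = 𝟙 E := by
    refine Over.OverMorphism.ext (AffineSpace.hom_ext ((Over.w _).trans (Category.id_comp _).symm) fun i => ?_)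
    have e1 : (lift (toUnit E ≫ t₁) (𝟙 E)).left.appTop ((fst L E).left.appTop (AffineSpace.coord S PUnit.unit)) = 1 := by
      rw [← ConcreteCategory.comp_apply, ← Scheme.Hom.comp_appTop, ← Over.comp_left, lift_fst, Over.comp_left,
        Scheme.Hom.comp_appTop, ConcreteCategory.comp_apply]
      show E.hom.appTop ((AffineSpace.homOfVector (𝟙 S) 1).appTop (AffineSpace.coord S PUnit.unit)) = 1
      simp
    have e2 : (lift (toUnit E ≫ t₁) (𝟙 E)).left.appTop ((snd L E).left.appTop (AffineSpace.coord S i)) = AffineSpace.coord S i := by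
      rw [← ConcreteCategory.comp_apply, ← Scheme.Hom.comp_appTop, ← Over.comp_left, lift_snd, Over.id_left]
      simp [E]
    show (_ ≫ sm.left).appTop _ = _
    rw [Scheme.Hom.comp_appTop, ConcreteCategory.comp_apply]
    show (lift (toUnit E ≫ t₁) (𝟙 E)).left.appTop ((AffineSpace.homOfVector (L ⊗ E).hom _).appTop (AffineSpace.coord S i)) = _
    rw [AffineSpace.homOfVector_appTop_coord, map_mul, e1, _root_.one_mul, e2, Over.id_left, Scheme.Hom.id_appTop]
    rfl
  obtain ⟨a, b, hab⟩ := GrothLib.Rigidity.exists_eq_mul (sm ≫ h) t₀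
  have hat : ∀ t : 𝟙_ (Over S) ⟶ L, (lift (toUnit E ≫ t) (𝟙 E) ≫ sm) ≫ h = (toUnit E ≫ t ≫ a) * b := fun t => by
    rw [Category.assoc, hab, MonObj.comp_mul, lift_fst_assoc, lift_snd_assoc, Category.id_comp, Category.assoc]
  have h0 := hat t₀
  have h1 := hat t₁
  rw [hsm0, Category.assoc] at h0
  rw [hsm1, Category.id_comp] at h1
  let c : 𝟙_ (Over S) ⟶ A := (t₁ ≫ a) * ((t₀ ≫ a)⁻¹ * (zero ≫ h))
  have hc : h = toUnit E ≫ c := by
    simp only [c, MonObj.comp_mul, GrpObj.comp_inv]
    rw [h0, inv_mul_cancel_left, ← h1]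
  exact ⟨c, hc⟩

/-- A morphism from a basic open subscheme of affine space to a proper group scheme over a field is constant. -/
theorem eq_comp_of_localization_mvPolynomial {K : Type u} [Field K] {A : Over (Spec (CommRingCat.of K))}
    [GrpObj A] [IsProper A.hom] (n : Type u) [Finite n] (s : MvPolynomial n K) (hs : s ≠ 0)
    (g : Spec (CommRingCat.of (Localization.Away s)) ⟶ A.left)
    (hg : g ≫ A.hom = Spec.map (CommRingCat.ofHom (algebraMap K (Localization.Away s)))) :
    ∃ a : Spec (CommRingCat.of K) ⟶ A.left, a ≫ A.hom = 𝟙 _ ∧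
      g = Spec.map (CommRingCat.ofHom (algebraMap K (Localization.Away s))) ≫ a := by
  let S := Spec (CommRingCat.of K)
  let E : Over S := Over.mk (𝔸(n; S) ↘ S)
  let j : Spec (CommRingCat.of (Localization.Away s)) ⟶ 𝔸(n; S) :=
    Spec.map (CommRingCat.ofHom (algebraMap (MvPolynomial n K) (Localization.Away s))) ≫
      (AffineSpace.SpecIso n (CommRingCat.of K)).inv
  haveI : IsOpenImmersion (Spec.map (CommRingCat.ofHom (algebraMap (MvPolynomial n K) (Localization.Away s)))) :=
    IsOpenImmersion.of_isLocalization s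
  haveI : IsOpenImmersion j := inferInstance
  have hj : j ≫ (𝔸(n; S) ↘ S) = Spec.map (CommRingCat.ofHom (algebraMap K (Localization.Away s))) := by
    rw [Category.assoc]
    refine (congrArg (_ ≫ ·) (AffineSpace.SpecIso_inv_over (n := n) (CommRingCat.of K))).trans ?_
    rw [← Spec.map_comp]
    rfl
  haveI : Smooth E.hom := by
    show Smooth (𝔸(n; S) ↘ S)
    rw [← MorphismProperty.cancel_left_of_respectsIso @Smooth (AffineSpace.SpecIso n (CommRingCat.of K)).inv,
      AffineSpace.SpecIso_inv_over, HasRingHomProperty.Spec_iff (P := @Smooth)]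
    show RingHom.Smooth (MvPolynomial.C (σ := n) (R := K))
    rw [← MvPolynomial.algebraMap_eq, RingHom.smooth_algebraMap]
    exact { }
  haveI : IsIntegral E.left := inferInstanceAs (IsIntegral 𝔸(n; S))
  haveI : GrpObj (Over.mk A.hom) := ‹GrpObj A›
  have hne : Nonempty (Spec (CommRingCat.of (Localization.Away s))) := by
    haveI : IsDomain (Localization.Away s) := IsLocalization.isDomain_of_le_nonZeroDivisors
      (S := Localization.Away s) (M := Submonoid.powers s) (powers_le_nonZeroDivisors_of_noZeroDivisors hs)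
    exact inferInstanceAs (Nonempty (PrimeSpectrum _))
  obtain ⟨z⟩ := hne
  obtain ⟨f, ⟨hf, hfU⟩, -⟩ := GrothLib.WeilExt.existsUnique_extension_of_isProper (R := K) E.hom A.hom j.opensRange
    (j.opensRange.2.dense ⟨j z, z, rfl⟩) (j.isoOpensRange.inv ≫ g) (by
      rw [Category.assoc, hg, ← hj]
      show _ ≫ j ≫ _ = _
      rw [Scheme.Hom.isoOpensRange_inv_comp_assoc]
      rfl)
  obtain ⟨c, hc⟩ := eq_toUnit_comp_of_affineSpace n (Over.homMk f hf : E ⟶ A)
  refine ⟨c.left, Over.w c, ?_⟩
  have h := congrArg (fun t => j.isoOpensRange.hom ≫ j.opensRange.ι ≫ t.left) hc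
  simp only [Over.homMk_left, Over.comp_left] at h
  rw [hfU, Iso.hom_inv_id_assoc] at h
  refine h.trans ?_
  show j.isoOpensRange.hom ≫ j.opensRange.ι ≫ (𝔸(n; S) ↘ S) ≫ c.left = _
  rw [Scheme.Hom.isoOpensRange_hom_ι_assoc, reassoc_of% hj]

end GrothLib.Rigidity
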