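import Groth.Agent.Lib.Rigidity.Smooth.Curve
import Groth.Agent.Lib.Rigidity.Field
import Groth.Agent.Lib.WeilExt.Dedekind
import Mathlib

/-!
# Rigidity for smooth varieties mapping to abelian varieties, over an algebraically closed field
-/

universe u

open CategoryTheory Limits AlgebraicGeometry MonoidalCategory CartesianMonoidalCategory MonObj TopologicalSpace

namespace GrothLib.Rigidity

variable {K : Type u} [Field K] [IsAlgClosed K]

/-- Rational points lift to closed points. -/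
theorem exists_point_mem {X : Over (Spec (CommRingCat.of K))} [LocallyOfFiniteType X.hom] {S : Set X.left}
    (hS : IsLocallyClosed S) (hne : S.Nonempty) :
    ∃ p : 𝟙_ (Over (Spec (CommRingCat.of K))) ⟶ X, p.left (IsLocalRing.closedPoint K) ∈ S := by
  haveI : JacobsonSpace X.left := LocallyOfFiniteType.jacobsonSpace (Y := Spec _) X.hom
  obtain ⟨c, hc, hcc⟩ := nonempty_inter_closedPoints hne hS
  refine ⟨Over.homMk (pointOfClosedPoint X.hom c hcc) (pointOfClosedPoint_comp _ _ _), ?_⟩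
  show pointOfClosedPoint X.hom c hcc (IsLocalRing.closedPoint K) ∈ S
  rw [pointOfClosedPoint_apply]
  exact hc

theorem point_ext {X : Over (Spec (CommRingCat.of K))} [LocallyOfFiniteType X.hom]
    {p q : 𝟙_ (Over (Spec (CommRingCat.of K))) ⟶ X}
    (h : p.left (IsLocalRing.closedPoint K) = q.left (IsLocalRing.closedPoint K)) : p = q :=
  Over.OverMorphism.ext (ext_of_apply_closedPoint_eq X.hom (Over.w p) (Over.w q) h)

theorem isClosed_point_range {X : Over (Spec (CommRingCat.of K))} [IsSeparated X.hom]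
    (p : 𝟙_ (Over (Spec (CommRingCat.of K))) ⟶ X) :
    IsClosed ({p.left (IsLocalRing.closedPoint K)} : Set X.left) := by
  have : IsClosedImmersion p.left := isClosedImmersion_of_comp_eq_id (Y := Spec (CommRingCat.of K)) X.hom p.left (Over.w p)
  haveI : Subsingleton ↥(Spec (CommRingCat.of K)) := (inferInstance : Subsingleton (PrimeSpectrum K))
  have h := p.left.isClosedMap _ (isClosed_discrete ({IsLocalRing.closedPoint K} : Set (Spec (CommRingCat.of K))))
  erw [Set.image_singleton] at h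
  exact h

variable {V W A : Over (Spec (CommRingCat.of K))}

/-- Each nonempty open subset of `V` contains a point `v` with `f (v, ·) = 1`. -/
theorem exists_point_slice_eq_one [Smooth V.hom] [IsSeparated V.hom] [IsIntegral V.left]
    [Smooth W.hom] [IsSeparated W.hom] [GeometricallyIntegral W.hom] [GrpObj A] [IsProper A.hom]
    (f : V ⊗ W ⟶ A) (v₀ : 𝟙_ _ ⟶ V) (w₀ : 𝟙_ _ ⟶ W)
    (h1 : lift (toUnit W ≫ v₀) (𝟙 W) ≫ f = 1) (h2 : lift (𝟙 V) (toUnit V ≫ w₀) ≫ f = 1)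
    (O : V.left.Opens) (hO : (O : Set V.left).Nonempty) :
    ∃ v : 𝟙_ _ ⟶ V, v.left (IsLocalRing.closedPoint K) ∈ O ∧ lift (toUnit W ≫ v) (𝟙 W) ≫ f = 1 := by
  by_cases hv₀ : v₀.left (IsLocalRing.closedPoint K) ∈ O
  · exact ⟨v₀, hv₀, h1⟩
  obtain ⟨N, pN, N₀, φ, hp, hsm, hint, hφ, ⟨na, hna⟩, ⟨nb, hnb⟩⟩ :=
    exists_proper_curve V.hom _ (isClosed_point_range v₀) O hO hv₀
  let N' : Over (Spec (CommRingCat.of K)) := Over.mk pN
  haveI : IsProper N'.hom := hp
  haveI : Smooth N'.hom := hsm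
  haveI : IsIntegral N'.left := hint
  haveI : IsIntegral W.left := GeometricallyIntegral.isIntegral_of_subsingleton W.hom
  haveI : IsLocallyNoetherian N'.left := LocallyOfFiniteType.isLocallyNoetherian N'.hom
  haveI : IsIntegral (N' ⊗ W).left := inferInstanceAs (IsIntegral (pullback N'.hom W.hom))
  haveI : Smooth (N' ⊗ W).hom := by dsimp; infer_instance
  let P := (N' ⊗ W).left
  let O' : P.Opens := (fst N' W).left ⁻¹ᵁ N₀
  let T : Over (Spec (CommRingCat.of K)) := Over.mk (O'.ι ≫ (N' ⊗ W).hom)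
  let ιT : T ⟶ N' ⊗ W := Over.homMk O'.ι
  let M₀ : Over (Spec (CommRingCat.of K)) := Over.mk (N₀.ι ≫ pN)
  let ι₀ : M₀ ⟶ N' := Over.homMk N₀.ι
  let φ' : M₀ ⟶ V := Over.homMk φ hφ
  let a₀ : T ⟶ M₀ := Over.homMk ((fst N' W).left.resLE N₀ O' le_rfl) (by
    show _ ≫ N₀.ι ≫ pN = O'.ι ≫ (N' ⊗ W).hom
    rw [Scheme.Hom.resLE_comp_ι_assoc]
    exact congrArg (O'.ι ≫ ·) (Over.w (fst N' W)))
  have ha₀ : a₀ ≫ ι₀ = ιT ≫ fst N' W := Over.OverMorphism.ext (Scheme.Hom.resLE_comp_ι _ _)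
  let h₀ : T ⟶ A := lift (a₀ ≫ φ') (ιT ≫ snd N' W) ≫ f
  haveI : GrpObj (Over.mk A.hom) := ‹GrpObj A›
  have hO'ne : (O' : Set P).Nonempty := by
    refine ⟨(lift (𝟙 N') (toUnit N' ≫ w₀)).left (N₀.ι na), ?_⟩
    show (fst N' W).left _ ∈ N₀
    rw [← Scheme.Hom.comp_apply, ← Over.comp_left, lift_fst]
    exact na.2
  obtain ⟨g, ⟨hgS, hg⟩, -⟩ := GrothLib.WeilExt.existsUnique_extension_of_isProper (R := K) (N' ⊗ W).hom A.hom O'
    (O'.2.dense hO'ne) h₀.left (Over.w h₀)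
  let h : N' ⊗ W ⟶ A := Over.homMk g hgS
  have hh : ιT ≫ h = h₀ := Over.OverMorphism.ext hg
  have key : ∀ {X : Over (Spec (CommRingCat.of K))} (u : X ⟶ N' ⊗ W) (u₀ : X ⟶ M₀), u₀ ≫ ι₀ = u ≫ fst N' W →
      u ≫ h = lift (u₀ ≫ φ') (u ≫ snd N' W) ≫ f := by
    intro X u u₀ hu
    have hr : Set.range u.left ⊆ Set.range O'.ι := by
      rintro _ ⟨x, rfl⟩
      rw [Scheme.Opens.range_ι]
      show (fst N' W).left (u.left x) ∈ N₀
      rw [← Scheme.Hom.comp_apply, ← Over.comp_left, ← hu, Over.comp_left, Scheme.Hom.comp_apply]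
      exact (u₀.left x).2
    have hl := IsOpenImmersion.lift_fac _ _ hr
    let s : X ⟶ T := Over.homMk (IsOpenImmersion.lift O'.ι u.left hr) (by
      show _ ≫ O'.ι ≫ (N' ⊗ W).hom = _
      rw [reassoc_of% hl]
      exact Over.w u)
    have hs : s ≫ ιT = u := Over.OverMorphism.ext hl
    have hs₀ : s ≫ a₀ = u₀ := by
      haveI : Mono ι₀.left := inferInstanceAs (Mono N₀.ι)
      haveI : Mono ι₀ := Over.mono_of_mono_left _
      rw [← cancel_mono ι₀, Category.assoc, ha₀, reassoc_of% hs, hu]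
    rw [← hs, Category.assoc, hh, Category.assoc]
    simp only [h₀, comp_lift_assoc, reassoc_of% hs₀]
  have hn₀ : ∀ S : Set (N₀ : Scheme.{u}), IsLocallyClosed S → S.Nonempty →
      ∃ n : 𝟙_ _ ⟶ M₀, n.left (IsLocalRing.closedPoint K) ∈ S := fun S hS hne => by
    haveI : LocallyOfFiniteType M₀.hom := inferInstanceAs (LocallyOfFiniteType (N₀.ι ≫ pN))
    exact exists_point_mem (X := M₀) hS hne
  obtain ⟨n₁, hn₁⟩ := hn₀ (φ ⁻¹' {v₀.left (IsLocalRing.closedPoint K)})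
    ((isClosed_point_range v₀).preimage φ.continuous).isLocallyClosed ⟨na, hna⟩
  have hn₁v : n₁ ≫ φ' = v₀ := point_ext hn₁
  have hN : lift (𝟙 N') (toUnit N' ≫ w₀) ≫ h = toUnit N' ≫ η[A] := by
    rw [← Hom.one_def]
    refine Over.OverMorphism.ext ?_
    haveI : IsDominant N₀.ι := Opens.isDominant_ι (N₀.2.dense ⟨_, na.2⟩)
    refine ext_of_isDominant_of_isSeparated A.hom ((Over.w _).trans (Over.w _).symm) N₀.ι ?_
    show (ι₀ ≫ lift (𝟙 N') (toUnit N' ≫ w₀) ≫ h).left = (ι₀ ≫ (1 : N' ⟶ A)).left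
    refine congrArg CommaMorphism.left ?_
    rw [MonObj.comp_one, ← Category.assoc, key (ι₀ ≫ lift (𝟙 N') (toUnit N' ≫ w₀)) (𝟙 M₀) (by simp),
      Category.id_comp, Category.assoc, lift_snd, ← Category.assoc, comp_toUnit,
      show lift φ' (toUnit M₀ ≫ w₀) = φ' ≫ lift (𝟙 V) (toUnit V ≫ w₀) by
        ext <;> simp,
      Category.assoc, h2, MonObj.comp_one]
  have hW : lift (toUnit W ≫ n₁ ≫ ι₀) (𝟙 W) ≫ h = 1 := by
    rw [key (lift (toUnit W ≫ n₁ ≫ ι₀) (𝟙 W)) (toUnit W ≫ n₁) (by simp), lift_snd, Category.assoc, hn₁v, h1]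
  have hone : h = 1 := by
    rw [eq_snd_comp_of_isAlgClosed h (n₁ ≫ ι₀) w₀ η[A] hN, hW, MonObj.comp_one]
  obtain ⟨n₂, hn₂⟩ := hn₀ (φ ⁻¹' O) (O.2.preimage φ.continuous).isLocallyClosed ⟨nb, hnb⟩
  refine ⟨n₂ ≫ φ', hn₂, ?_⟩
  have := key (lift (toUnit W ≫ n₂ ≫ ι₀) (𝟙 W)) (toUnit W ≫ n₂) (by simp)
  rw [hone, MonObj.comp_one, lift_snd, Category.assoc] at this
  exact this.symm

/-- A morphism from a product of smooth varieties to an abelian variety killing both axes is trivial. -/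
theorem eq_one_of_slices [Smooth V.hom] [IsSeparated V.hom] [IsIntegral V.left]
    [Smooth W.hom] [IsSeparated W.hom] [GeometricallyIntegral W.hom] [GrpObj A] [IsProper A.hom]
    (f : V ⊗ W ⟶ A) (v₀ : 𝟙_ _ ⟶ V) (w₀ : 𝟙_ _ ⟶ W)
    (h1 : lift (toUnit W ≫ v₀) (𝟙 W) ≫ f = 1) (h2 : lift (𝟙 V) (toUnit V ≫ w₀) ≫ f = 1) : f = 1 := by
  haveI : IsIntegral W.left := GeometricallyIntegral.isIntegral_of_subsingleton W.hom
  haveI : IsLocallyNoetherian V.left := LocallyOfFiniteType.isLocallyNoetherian V.hom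
  haveI : IsIntegral (V ⊗ W).left := inferInstanceAs (IsIntegral (pullback V.hom W.hom))
  haveI : LocallyOfFiniteType (V ⊗ W).hom := by dsimp; infer_instance
  haveI : JacobsonSpace (V ⊗ W).left := LocallyOfFiniteType.jacobsonSpace (Y := Spec _) (V ⊗ W).hom
  have hopen : IsOpenMap (fst V W).left := by
    have : Smooth (fst V W).left := by dsimp; infer_instance
    exact (fst V W).left.isOpenMap
  let pt : Spec (CommRingCat.of K) := IsLocalRing.closedPoint K
  let S : Set (V ⊗ W).left := {c | ∃ q : 𝟙_ _ ⟶ V ⊗ W, q.left pt = c ∧ q ≫ f = 1}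
  have hS : Dense S := by
    rw [dense_iff_inter_open]
    intro Ω hΩ hne
    obtain ⟨v, hv, hvf⟩ := exists_point_slice_eq_one f v₀ w₀ h1 h2 ⟨_, hopen _ hΩ⟩ (hne.image _)
    obtain ⟨c, hc, hcv⟩ := hv
    obtain ⟨q, hq⟩ := exists_point_mem (X := V ⊗ W) (S := Ω ∩ (fst V W).left ⁻¹' {v.left pt})
      (hΩ.isLocallyClosed.inter ((isClosed_point_range v).preimage (fst V W).left.continuous).isLocallyClosed)
      ⟨c, hc, hcv⟩
    refine ⟨q.left pt, hq.1, q, rfl, ?_⟩
    have hqv : q ≫ fst V W = v := point_ext hq.2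
    have : q = (q ≫ snd V W) ≫ lift (toUnit W ≫ v) (𝟙 W) := by
      ext
      · simp [hqv]
      · simp
    rw [this, Category.assoc, Category.assoc, hvf, MonObj.comp_one, MonObj.comp_one]
  refine Over.OverMorphism.ext ?_
  refine ext_of_fromSpecResidueField_eq _ _ A.hom S hS ?_ (by rw [Over.w, Over.w])
  rintro _ ⟨q, rfl, hqf⟩
  have hc : IsClosed ({q.left pt} : Set (V ⊗ W).left) := by
    haveI : IsSeparated (V ⊗ W).hom := by dsimp; infer_instance
    exact isClosed_point_range q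
  have hq : q.left = pointOfClosedPoint (V ⊗ W).hom _ hc :=
    ext_of_apply_closedPoint_eq (V ⊗ W).hom (Over.w q) (pointOfClosedPoint_comp _ _ _) (by rw [pointOfClosedPoint_apply])
  rw [← cancel_epi (Spec.map (residueFieldIsoBase (V ⊗ W).hom _ hc).hom)]
  have hl : (q ≫ f).left = (q ≫ (1 : V ⊗ W ⟶ A)).left := by rw [hqf, MonObj.comp_one]
  rw [Over.comp_left, Over.comp_left, hq] at hl
  simpa [pointOfClosedPoint] using hl

end GrothLib.Rigidity
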