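import Groth.Agent.Lib.GrpSchField.HeightMax
import Mathlib

/-!
# Curves through a point avoiding a hypersurface
-/

universe u

namespace GrothLib.Rigidity

/-- In a Noetherian domain a prime `p` inside `m` avoiding `a` which is maximal with these
properties has `height (m / p) ≤ 1`. -/
theorem exists_prime_not_mem_height_le_one {B : Type*} [CommRing B] [IsNoetherianRing B] [IsDomain B]
    (m : Ideal B) [m.IsPrime] (a : B) (ha : a ≠ 0) (ham : a ∈ m) :
    ∃ p : Ideal B, p.IsPrime ∧ p ≤ m ∧ a ∉ p ∧ (m.map (Ideal.Quotient.mk p)).height ≤ 1 := by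
  obtain ⟨p, ⟨hp, hpm, hap⟩, hmax⟩ := set_has_maximal_iff_noetherian.2 (inferInstance : IsNoetherian B B)
    {P : Ideal B | P.IsPrime ∧ P ≤ m ∧ a ∉ P} ⟨⊥, Ideal.isPrime_bot, bot_le, by simpa using ha⟩
  haveI := hp
  refine ⟨p, hp, hpm, hap, ?_⟩
  let π := Ideal.Quotient.mk p
  have hπ : Function.Surjective π := Ideal.Quotient.mk_surjective
  let M := m.map π
  haveI hMp : M.IsPrime := Ideal.map_isPrime_of_surjective hπ (by rw [Ideal.mk_ker]; exact hpm)
  have hMc : M.comap π = m := by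
    rw [Ideal.comap_map_of_surjective _ hπ, ← RingHom.ker_eq_comap_bot, Ideal.mk_ker, sup_eq_left.mpr hpm]
  have key : ∀ Q : Ideal (B ⧸ p), Q.IsPrime → Q ≤ M → Q ≠ ⊥ → π a ∈ Q := by
    intro Q hQ hQM hQ0
    by_contra h
    have hle : p ≤ Q.comap π := fun x hx => by
      rw [Ideal.mem_comap, Ideal.Quotient.eq_zero_iff_mem.2 hx]; exact zero_mem _
    refine hmax (Q.comap π) ⟨inferInstance, hMc ▸ Ideal.comap_mono hQM, h⟩ (lt_of_le_of_ne hle fun he => hQ0 ?_)
    rw [← Ideal.map_comap_of_surjective _ hπ Q, ← he, Ideal.map_quotient_self]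
  have ha0 : π a ≠ 0 := fun h => hap (Ideal.Quotient.eq_zero_iff_mem.1 h)
  have haM : π a ∈ M := Ideal.mem_map_of_mem _ ham
  let S := (Ideal.span {π a}).minimalPrimes
  have hS1 : ∀ s ∈ S, (s : Ideal (B ⧸ p)).height ≤ 1 := fun s hs =>
    haveI : s.IsPrime := hs.1.1
    Ideal.height_le_one_of_isPrincipal_of_mem_minimalPrimes _ s hs
  by_contra hM
  have hMS : M ∉ S := fun h => hM (hS1 M h)
  have hfin : S.Finite := Ideal.finite_minimalPrimes_of_isNoetherianRing _ _
  obtain ⟨b, hbM, hbS⟩ : ∃ b ∈ M, ∀ s ∈ S, s ≤ M → b ∉ s := by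
    by_contra hc
    classical
    push_neg at hc
    let S' := hfin.toFinset.filter (fun s => s ≤ M)
    have hsub : (M : Set (B ⧸ p)) ⊆ ⋃ s ∈ (↑S' : Set (Ideal (B ⧸ p))), (s : Set (B ⧸ p)) := by
      intro x hx
      obtain ⟨s, hs, hsM, hxs⟩ := hc x hx
      exact Set.mem_biUnion (by simp [S', hs, hsM]) hxs
    obtain ⟨s, hs, hle⟩ := (Ideal.subset_union_prime (⊥ : Ideal (B ⧸ p)) ⊥ fun s hs _ _ => by
      simp only [S', Finset.mem_filter, Set.Finite.mem_toFinset] at hs
      exact hs.1.1.1).1 hsub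
    simp only [S', Finset.mem_filter, Set.Finite.mem_toFinset] at hs
    exact hMS (le_antisymm hle hs.2 ▸ hs.1)
  have hb0 : b ≠ 0 := by
    obtain ⟨s, hs, hsM⟩ := Ideal.exists_minimalPrimes_le (I := Ideal.span {π a}) (J := M)
      ((Ideal.span_singleton_le_iff_mem M).2 haM)
    exact fun h => hbS s hs hsM (h ▸ zero_mem _)
  obtain ⟨r, hr, hrM⟩ := Ideal.exists_minimalPrimes_le (I := Ideal.span {b}) (J := M)
    ((Ideal.span_singleton_le_iff_mem M).2 hbM)
  haveI : r.IsPrime := hr.1.1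
  have hr1 : r.height ≤ 1 := Ideal.height_le_one_of_isPrincipal_of_mem_minimalPrimes _ r hr
  have hbr : b ∈ r := (Ideal.span_singleton_le_iff_mem r).1 hr.1.2
  have har : π a ∈ r := key r hr.1.1 hrM fun h => hb0 (by simpa [h] using hbr)
  obtain ⟨s, hs, hsr⟩ := Ideal.exists_minimalPrimes_le (I := Ideal.span {π a}) (J := r)
    ((Ideal.span_singleton_le_iff_mem r).2 har)
  haveI : s.IsPrime := hs.1.1
  have hs0 : (⊥ : Ideal (B ⧸ p)) < s := bot_lt_iff_ne_bot.2 fun h =>
    ha0 (by simpa [h] using (Ideal.span_singleton_le_iff_mem s).1 hs.1.2)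
  rcases hsr.eq_or_lt with h | h
  · exact hbS s hs (hsr.trans hrM) (h ▸ hbr)
  · have h1 := Ideal.height_strict_mono_of_isPrime_of_isPrime hs0
    have h2 := Ideal.height_strict_mono_of_isPrime_of_isPrime h
    rw [Ideal.height_bot] at h1
    exact absurd (h2.trans_le hr1) (not_lt.2 (Order.one_le_iff_pos.2 h1))

/-- A curve in `Spec B` through a closed point meeting a given basic open. -/
theorem exists_prime_quotient_dim_le_one (k : Type*) [Field k] {B : Type*} [CommRing B] [IsDomain B]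
    [Algebra k B] [Algebra.FiniteType k B] (m : Ideal B) [m.IsMaximal] (a : B) (ha : a ≠ 0) (ham : a ∈ m) :
    ∃ p : Ideal B, p.IsPrime ∧ p ≤ m ∧ a ∉ p ∧ ringKrullDim (B ⧸ p) ≤ 1 := by
  haveI : IsNoetherianRing B := Algebra.FiniteType.isNoetherianRing k B
  obtain ⟨p, hp, hpm, hap, h⟩ := exists_prime_not_mem_height_le_one m a ha ham
  haveI := hp
  haveI : (m.map (Ideal.Quotient.mk p)).IsMaximal :=
    Ideal.IsMaximal.map_of_surjective_of_ker_le Ideal.Quotient.mk_surjective (by rw [Ideal.mk_ker]; exact hpm)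
  refine ⟨p, hp, hpm, hap, ?_⟩
  rw [← GrothLib.GrpSchField.height_eq_ringKrullDim_of_isMaximal k (B ⧸ p) (m.map (Ideal.Quotient.mk p))]
  exact WithBot.coe_le_coe.2 h

end GrothLib.Rigidity
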