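import Groth.Agent.Lib.Rigidity.Smooth.General
import Groth.Agent.Lib.ProjDim.Const
import Groth.Agent.S11995
import Mathlib

/-!
# Morphisms from projective space to abelian varieties are constant
-/

universe u

open CategoryTheory Limits AlgebraicGeometry MonoidalCategory CartesianMonoidalCategory MonObj TopologicalSpace
open HomogeneousLocalization

namespace GrothLib.Rigidity

variable (K : Type u) [Field K] (n : ℕ)

local notation "PG" => CohB1.polyGrading n K
local notation "x₀" => (MvPolynomial.X (0 : Fin (n + 1)) : MvPolynomial (Fin (n + 1)) K)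

/-- Dehomogenisation at the zeroth coordinate. -/
noncomputable def dehom : MvPolynomial (Fin (n + 1)) K →+* MvPolynomial (Fin n) K :=
  (MvPolynomial.aeval (Fin.cases 1 MvPolynomial.X) : MvPolynomial (Fin (n + 1)) K →ₐ[K] MvPolynomial (Fin n) K).toRingHom

theorem X_zero_mem : x₀ ∈ PG 1 := MvPolynomial.isHomogeneous_X _ _

theorem isUnit_dehom : IsUnit (dehom K n x₀) := by simp [dehom]

/-- The chart map `k[x₁, …, xₙ] ← (k[X]_{X₀})₀`. -/
noncomputable def chartHom : Away PG x₀ →+* MvPolynomial (Fin n) K :=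
  GrothLib.ProjPt.evalAway PG (dehom K n) x₀ (isUnit_dehom K n)

theorem chartHom_mk (m : ℕ) (a : MvPolynomial (Fin (n + 1)) K) (ha : a ∈ PG (m • 1)) :
    chartHom K n (Away.mk PG (X_zero_mem K n) m a ha) = dehom K n a := by
  have h := GrothLib.ProjPt.evalAway_mk_spec PG (dehom K n) (X_zero_mem K n) (isUnit_dehom K n) m a ha
  rw [chartHom]
  simpa [dehom] using h

theorem eval₂_mul_of_isHomogeneous {σ R S : Type*} [CommRing R] [CommRing S] (g : R →+* S) (v : σ → S) (c : S)
    {p : MvPolynomial σ R} {m : ℕ} (hp : p.IsHomogeneous m) :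
    MvPolynomial.eval₂ g (fun i => c * v i) p = c ^ m * MvPolynomial.eval₂ g v p := by
  simp only [MvPolynomial.eval₂_eq, Finset.mul_sum]
  refine Finset.sum_congr rfl fun d hd => ?_
  simp only [mul_pow, Finset.prod_mul_distrib, Finset.prod_pow_eq_pow_sum]
  rw [← hp.degree_eq_sum_deg_support hd]
  ring

theorem exists_chartHom_leftInverse : ∃ χ : MvPolynomial (Fin n) K →+* Away PG x₀, χ.comp (chartHom K n) = RingHom.id _ := by
  let c : Fin (n + 1) → Away PG x₀ := fun k =>
    Away.mk PG (X_zero_mem K n) 1 (MvPolynomial.X k) (by simpa using MvPolynomial.isHomogeneous_X K k)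
  let gz : K →+* Away PG x₀ := (fromZeroRingHom PG _).comp (algebraMap K (CohB1.polyGrading n K 0))
  refine ⟨MvPolynomial.eval₂Hom gz (fun j => c j.succ), RingHom.ext fun z => ?_⟩
  obtain ⟨m, a, ha, rfl⟩ := Away.mk_surjective _ (X_zero_mem K n) z
  rw [RingHom.comp_apply, chartHom_mk, RingHom.id_apply]
  apply HomogeneousLocalization.val_injective
  rw [Away.val_mk]
  let L := Localization.Away x₀
  let w : L := Localization.mk 1 ⟨x₀, Submonoid.mem_powers _⟩
  let vh : Away PG x₀ →+* L := algebraMap (Away PG x₀) L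
  show (vh.comp ((MvPolynomial.eval₂Hom gz (fun j => c j.succ)).comp (dehom K n))) a = _
  have hc : ∀ k, vh (c k) = w * algebraMap _ L (MvPolynomial.X k : MvPolynomial (Fin (n + 1)) K) := by
    intro k
    show (Away.mk PG (X_zero_mem K n) 1 (MvPolynomial.X k) _).val = _
    rw [Away.val_mk, ← Localization.mk_one_eq_algebraMap, Localization.mk_mul]
    congr 1
    · rw [_root_.one_mul]
    · exact Subtype.ext (by simp)
  have hcomp : vh.comp ((MvPolynomial.eval₂Hom gz (fun j => c j.succ)).comp (dehom K n)) =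
      MvPolynomial.eval₂Hom ((algebraMap (MvPolynomial (Fin (n + 1)) K) L).comp MvPolynomial.C)
        (fun k => w * algebraMap _ L (MvPolynomial.X k : MvPolynomial (Fin (n + 1)) K)) := by
    apply MvPolynomial.ringHom_ext
    · intro r
      simp only [RingHom.comp_apply, dehom, AlgHom.toRingHom_eq_coe, RingHom.coe_coe, MvPolynomial.algHom_C,
        MvPolynomial.algebraMap_eq, MvPolynomial.eval₂Hom_C]
      show (gz r).val = _
      rw [← Localization.mk_one_eq_algebraMap]
      rfl
    · intro k
      simp only [RingHom.comp_apply, dehom, AlgHom.toRingHom_eq_coe, RingHom.coe_coe, MvPolynomial.aeval_X,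
        MvPolynomial.eval₂Hom_X']
      refine Fin.cases ?_ (fun j => ?_) k
      · rw [Fin.cases_zero, map_one, map_one, ← Localization.mk_one_eq_algebraMap, Localization.mk_mul]
        symm
        simp [Localization.mk_eq_mk']
      · rw [Fin.cases_succ, MvPolynomial.eval₂Hom_X', hc]
  rw [hcomp]
  have ha' : MvPolynomial.IsHomogeneous a m := by
    simpa [CohB1.polyGrading] using ha
  show MvPolynomial.eval₂ _ _ a = _
  rw [eval₂_mul_of_isHomogeneous _ _ w ha',
    show MvPolynomial.eval₂ ((algebraMap _ L).comp MvPolynomial.C)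
      (fun k => algebraMap _ L (MvPolynomial.X k : MvPolynomial (Fin (n + 1)) K)) a = algebraMap _ L a by
      conv_rhs => rw [← MvPolynomial.eval₂_eta a, MvPolynomial.eval₂_comp_left (algebraMap _ L)]
      rfl,
    Localization.mk_pow, one_pow, ← Localization.mk_one_eq_algebraMap, Localization.mk_mul, _root_.one_mul, _root_.mul_one]
  congr 1

/-- A morphism from projective space over an algebraically closed field to an abelian variety is constant. -/
theorem eq_toUnit_comp_of_projSpace [IsAlgClosed K] (A : Over (Spec (CommRingCat.of K))) [GrpObj A] [IsProper A.hom]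
    [GeometricallyIntegral A.hom] (f : Over.mk (CohB1.ProjSpace.toSpec n K) ⟶ A) :
    ∃ a : 𝟙_ (Over (Spec (CommRingCat.of K))) ⟶ A, f = toUnit _ ≫ a := by
  obtain ⟨χ, hχ⟩ := exists_chartHom_leftInverse K n
  let φ : Spec (CommRingCat.of (MvPolynomial (Fin n) K)) ⟶ CohB1.ProjSpace n K :=
    Spec.map (CommRingCat.ofHom (chartHom K n)) ≫ Proj.awayι PG x₀ (X_zero_mem K n) Nat.one_pos
  have hφK : φ ≫ CohB1.ProjSpace.toSpec n K = Spec.map (CommRingCat.ofHom (algebraMap K (MvPolynomial (Fin n) K))) := by
    show (_ ≫ _) ≫ Proj.toSpecZero PG ≫ _ = _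
    rw [Category.assoc, Proj.awayι_toSpecZero_assoc, ← Spec.map_comp, ← Spec.map_comp]
    refine congrArg (fun t => Spec.map (CommRingCat.ofHom t)) (RingHom.ext fun r => ?_)
    show chartHom K n (fromZeroRingHom PG _ (algebraMap K (CohB1.polyGrading n K 0) r)) = _
    have h0 : fromZeroRingHom PG (Submonoid.powers x₀) (algebraMap K (CohB1.polyGrading n K 0) r) =
        Away.mk PG (X_zero_mem K n) 0 (MvPolynomial.C r) (MvPolynomial.isHomogeneous_C _ r) := by
      apply HomogeneousLocalization.val_injective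
      rw [Away.val_mk]
      rfl
    rw [h0, chartHom_mk]
    simp [dehom]
  have hdom : DenseRange φ := by
    haveI : IsIntegral (CohB1.ProjSpace n K) := GrothLib.ProjDim.isIntegral_proj K n
    have hs : Function.Surjective (Spec.map (CommRingCat.ofHom (chartHom K n))) := fun p => by
      refine ⟨Spec.map (CommRingCat.ofHom χ) p, ?_⟩
      rw [← Scheme.Hom.comp_apply, ← Spec.map_comp, ← CommRingCat.ofHom_comp, hχ, CommRingCat.ofHom_id, Spec.map_id]
      rfl
    show Dense (Set.range φ)
    show Dense (Set.range (⇑(Proj.awayι PG x₀ (X_zero_mem K n) Nat.one_pos) ∘ ⇑(Spec.map (CommRingCat.ofHom (chartHom K n)))))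
    rw [Set.range_comp, hs.range_eq, Set.image_univ]
    rw [← Scheme.Hom.coe_opensRange, Proj.opensRange_awayι]
    haveI : PreirreducibleSpace ↥(Proj PG) := (inferInstance : PreirreducibleSpace ↥(CohB1.ProjSpace n K))
    refine (Proj.basicOpen PG x₀).2.dense ?_
    rw [← Proj.opensRange_awayι (𝒜 := PG) x₀ (X_zero_mem K n) Nat.one_pos]
    exact ⟨_, ⟨Spec.map (CommRingCat.ofHom (chartHom K n)) (⟨⊥, Ideal.isPrime_bot⟩ : PrimeSpectrum _), rfl⟩⟩
  -- the affine space
  let m := ULift.{u} (Fin n)
  let S := Spec (CommRingCat.of K)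
  let E : Over S := Over.mk (𝔸(m; S) ↘ S)
  haveI : Smooth E.hom := by
    show Smooth (𝔸(m; S) ↘ S)
    rw [← MorphismProperty.cancel_left_of_respectsIso @Smooth (AffineSpace.SpecIso m (CommRingCat.of K)).inv,
      AffineSpace.SpecIso_inv_over, HasRingHomProperty.Spec_iff (P := @Smooth)]
    show RingHom.Smooth (MvPolynomial.C (σ := m) (R := K))
    rw [← MvPolynomial.algebraMap_eq, RingHom.smooth_algebraMap]
    exact { }
  haveI : IsSeparated E.hom := inferInstanceAs (IsSeparated (𝔸(m; S) ↘ S))
  haveI : QuasiCompact E.hom := inferInstanceAs (QuasiCompact (𝔸(m; S) ↘ S))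
  haveI : GeometricallyIntegral E.hom := inferInstanceAs (GeometricallyIntegral (𝔸(m; S) ↘ S))
  let e : MvPolynomial (Fin n) K →+* MvPolynomial m K := (MvPolynomial.rename ULift.up).toRingHom
  let ψ : E.left ⟶ CohB1.ProjSpace n K :=
    (AffineSpace.SpecIso m (CommRingCat.of K)).hom ≫ Spec.map (CommRingCat.ofHom e) ≫ φ
  have hψK : ψ ≫ CohB1.ProjSpace.toSpec n K = E.hom := by
    show _ = 𝔸(m; S) ↘ S
    rw [← cancel_epi (AffineSpace.SpecIso m (CommRingCat.of K)).inv]
    simp only [ψ, Category.assoc, Iso.inv_hom_id_assoc, AffineSpace.SpecIso_inv_over, hφK, ← Spec.map_comp]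
    refine Eq.trans ?_ (AffineSpace.SpecIso_inv_over (n := m) (CommRingCat.of K)).symm
    refine congrArg Spec.map ?_
    ext r
    simp [e]
  haveI : IsIntegral E.left := GeometricallyIntegral.isIntegral_of_subsingleton E.hom
  obtain ⟨a, ha⟩ := Groth.Agent.S11995.result K E A m ⊤ ⟨genericPoint E.left, trivial⟩ (⊤ : E.left.Opens).ι
    rfl (by
      show DenseRange (⊤ : E.left.Opens).ι
      exact Function.Surjective.denseRange fun x => ⟨⟨x, trivial⟩, rfl⟩)
    (Over.homMk (ψ ≫ f.left) (by rw [Category.assoc, Over.w]; exact hψK))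
  refine ⟨a, Over.OverMorphism.ext ?_⟩
  haveI : IsIntegral (CohB1.ProjSpace n K) := GrothLib.ProjDim.isIntegral_proj K n
  haveI : IsIntegral (Over.mk (CohB1.ProjSpace.toSpec n K)).left := ‹_›
  haveI : IsDominant ψ := by
    haveI : IsDominant φ := ⟨hdom⟩
    haveI : IsIso (Spec.map (CommRingCat.ofHom e)) := by
      haveI : IsIso (CommRingCat.ofHom e) := (ConcreteCategory.isIso_iff_bijective _).mpr
        (MvPolynomial.renameEquiv K Equiv.ulift.{u}.symm).bijective
      infer_instance
    infer_instance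
  refine ext_of_isDominant_of_isSeparated A.hom ((Over.w _).trans (Over.w _).symm) ψ ?_
  have h := congrArg CommaMorphism.left ha
  refine h.trans ?_
  show E.hom ≫ a.left = ψ ≫ CohB1.ProjSpace.toSpec n K ≫ a.left
  rw [reassoc_of% hψK]

end GrothLib.Rigidity
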